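import Mathlib.CategoryTheory.Adjunction.Basic
import Mathlib.CategoryTheory.Limits.Shapes.Equalizers

/-!
# Comonadic descent of kernels of functors, abstract part

`fs ⊣ ft`, `gs ⊣ gt` play the role of `f^* ⊣ f_*`, `g^* ⊣ g_*` for an affine cover `f : X' ⟶ X` and its base
change `g : P' ⟶ P`; `W K M = q_* (p^* M ⊗ K)`, `W' K N = q'_* (p'^* N ⊗ K)`.  A functor `F` on `X` whose
composition with `f_*` has a kernel `K'` yields a descent datum `φ : K' ⟶ g^* g_* K'`, and a natural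
transformation from `F` to the functor with kernel `K = eq (g_* K' ⇉ g_* g^* g_* K')`.
-/

set_option autoImplicit false

open CategoryTheory

namespace K308.DescAbs

universe v₁ v₂ v₃ v₄ v₅ u₁ u₂ u₃ u₄ u₅

/-- `κ` is an equalizer of `a` and `b`. -/
structure IsEq {C : Type u₁} [Category.{v₁} C] {A B D : C} (κ : A ⟶ B) (a b : B ⟶ D) : Prop where
  mono : Mono κ
  w : κ ≫ a = κ ≫ b
  lift : ∀ {Z : C} (z : Z ⟶ B), z ≫ a = z ≫ b → ∃ l : Z ⟶ A, l ≫ κ = z

/-- Transport of equalizers along isomorphisms of parallel pairs. -/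
theorem IsEq.of_iso {C : Type u₁} [Category.{v₁} C] {A B D A' B' D' : C} {κ : A ⟶ B} {a b : B ⟶ D}
    (h : IsEq κ a b) {κ' : A' ⟶ B'} {a' b' : B' ⟶ D'} (eA : A ≅ A') (eB : B ≅ B') (eD : D ≅ D')
    (h₁ : κ ≫ eB.hom = eA.hom ≫ κ') (h₂ : a ≫ eD.hom = eB.hom ≫ a')
    (h₃ : b ≫ eD.hom = eB.hom ≫ b') : IsEq κ' a' b' := by
  have hκ : κ' = eA.inv ≫ κ ≫ eB.hom := by rw [h₁, Iso.inv_hom_id_assoc]
  have ha : a' = eB.inv ≫ a ≫ eD.hom := by rw [h₂, Iso.inv_hom_id_assoc]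
  have hb : b' = eB.inv ≫ b ≫ eD.hom := by rw [h₃, Iso.inv_hom_id_assoc]
  have := h.mono
  refine ⟨?_, ?_, ?_⟩
  · rw [hκ]; infer_instance
  · rw [hκ, ha, hb]
    simp only [Category.assoc, Iso.hom_inv_id_assoc]
    rw [← Category.assoc κ a, h.w, Category.assoc]
  · intro Z z hz
    rw [ha, hb] at hz
    have hz' : (z ≫ eB.inv) ≫ a = (z ≫ eB.inv) ≫ b := by
      rw [← cancel_mono eD.hom]
      simpa only [Category.assoc] using hz
    obtain ⟨l, hl⟩ := h.lift _ hz'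
    refine ⟨l ≫ eA.hom, ?_⟩
    rw [hκ]
    simp only [Category.assoc, Iso.hom_inv_id_assoc]
    rw [← Category.assoc l, hl, Category.assoc, Iso.inv_hom_id, Category.comp_id]

/-- The comparison of two equalizers of isomorphic pairs is invertible. -/
theorem IsEq.isIso_of {C : Type u₁} [Category.{v₁} C] {A B D A' B' D' : C} {κ : A ⟶ B} {a b : B ⟶ D}
    (h : IsEq κ a b) {κ' : A' ⟶ B'} {a' b' : B' ⟶ D'} (h' : IsEq κ' a' b') (t : A ⟶ A')
    (eB : B ≅ B') (eD : D ≅ D') (h₁ : κ ≫ eB.hom = t ≫ κ') (h₂ : a ≫ eD.hom = eB.hom ≫ a')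
    (h₃ : b ≫ eD.hom = eB.hom ≫ b') : IsIso t := by
  have := h.mono
  have := h'.mono
  have ha : a' = eB.inv ≫ a ≫ eD.hom := by rw [h₂, Iso.inv_hom_id_assoc]
  have hb : b' = eB.inv ≫ b ≫ eD.hom := by rw [h₃, Iso.inv_hom_id_assoc]
  have hz : (κ' ≫ eB.inv) ≫ a = (κ' ≫ eB.inv) ≫ b := by
    have hw := h'.w
    rw [ha, hb] at hw
    rw [← cancel_mono eD.hom]
    simpa only [Category.assoc] using hw
  obtain ⟨l, hl⟩ := h.lift _ hz
  refine ⟨l, ?_, ?_⟩
  · rw [← cancel_mono κ, Category.assoc, hl, ← Category.assoc, ← h₁, Category.assoc, Iso.hom_inv_id,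
      Category.comp_id, Category.id_comp]
  · rw [← cancel_mono κ', Category.assoc, ← h₁, ← Category.assoc, hl, Category.assoc, Iso.inv_hom_id,
      Category.comp_id, Category.id_comp]

/-- A split fork is an equalizer. -/
theorem IsEq.of_split {C : Type u₁} [Category.{v₁} C] {A B D : C} {κ : A ⟶ B} {a b : B ⟶ D}
    (w : κ ≫ a = κ ≫ b) (s : B ⟶ A) (t : D ⟶ B) (h₁ : κ ≫ s = 𝟙 A) (h₂ : b ≫ t = 𝟙 B)
    (h₃ : a ≫ t = s ≫ κ) : IsEq κ a b := by
  refine ⟨⟨fun x y hxy => ?_⟩, w, fun z hz => ⟨z ≫ s, ?_⟩⟩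
  · rw [← Category.comp_id x, ← Category.comp_id y, ← h₁, ← Category.assoc, hxy, Category.assoc]
  · rw [Category.assoc, ← h₃, ← Category.assoc, hz, Category.assoc, h₂, Category.comp_id]

/-- The abstract situation. -/
structure Data (X : Type u₁) [Category.{v₁} X] (X' : Type u₂) [Category.{v₂} X']
    (P : Type u₃) [Category.{v₃} P] (P' : Type u₄) [Category.{v₄} P'] (Y : Type u₅)
    [Category.{v₅} Y] where
  /-- `f^*` -/
  fs : X ⥤ X'
  /-- `f_*` -/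
  ft : X' ⥤ X
  /-- the adjunction -/
  adf : fs ⊣ ft
  /-- `g^*` -/
  gs : P ⥤ P'
  /-- `g_*` -/
  gt : P' ⥤ P
  /-- the adjunction -/
  adg : gs ⊣ gt
  /-- `q_* (p^* M ⊗ K)` -/
  W : P ⥤ X ⥤ Y
  /-- `q'_* (p'^* N ⊗ K)` -/
  W' : P' ⥤ X' ⥤ Y
  /-- the projection formula -/
  β : ∀ (K : P') (M : X), (W.obj (gt.obj K)).obj M ≅ (W'.obj K).obj (fs.obj M)
  β_K : ∀ {K K₁ : P'} (a : K ⟶ K₁) (M : X),
    (W.map (gt.map a)).app M ≫ (β K₁ M).hom = (β K M).hom ≫ (W'.map a).app (fs.obj M)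
  β_M : ∀ (K : P') {M M₁ : X} (a : M ⟶ M₁),
    (W.obj (gt.obj K)).map a ≫ (β K M₁).hom = (β K M).hom ≫ (W'.obj K).map (fs.map a)
  /-- base change and the projection formula -/
  γ : ∀ (L : P) (N : X'), (W.obj L).obj (ft.obj N) ≅ (W'.obj (gs.obj L)).obj N
  γ_L : ∀ {L L₁ : P} (a : L ⟶ L₁) (N : X'),
    (W.map a).app (ft.obj N) ≫ (γ L₁ N).hom = (γ L N).hom ≫ (W'.map (gs.map a)).app N
  γ_N : ∀ (L : P) {N N₁ : X'} (a : N ⟶ N₁),
    (W.obj L).map (ft.map a) ≫ (γ L N₁).hom = (γ L N).hom ≫ (W'.obj (gs.obj L)).map a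
  k1 : ∀ (K : P') (N : X'), (β K (ft.obj N)).hom ≫ (W'.obj K).map (adf.counit.app N) =
    (γ (gt.obj K) N).hom ≫ (W'.map (adg.counit.app K)).app N
  k3 : ∀ (L : P) (M : X), (W.map (adg.unit.app L)).app M ≫ (β (gs.obj L) M).hom =
    (W.obj L).map (adf.unit.app M) ≫ (γ L (fs.obj M)).hom

variable {X : Type u₁} [Category.{v₁} X] {X' : Type u₂} [Category.{v₂} X']
    {P : Type u₃} [Category.{v₃} P] {P' : Type u₄} [Category.{v₄} P'] {Y : Type u₅}
    [Category.{v₅} Y] (D : Data X X' P P' Y)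

attribute [reassoc] Data.β_K Data.β_M Data.γ_L Data.γ_N Data.k1 Data.k3

namespace Data

@[reassoc]
theorem β_K_inv {K K₁ : P'} (a : K ⟶ K₁) (M : X) :
    (D.β K M).inv ≫ (D.W.map (D.gt.map a)).app M =
      (D.W'.map a).app (D.fs.obj M) ≫ (D.β K₁ M).inv := by
  rw [Iso.inv_comp_eq, ← D.β_K_assoc, Iso.hom_inv_id, Category.comp_id]

@[reassoc]
theorem β_M_inv (K : P') {M M₁ : X} (a : M ⟶ M₁) :
    (D.β K M).inv ≫ (D.W.obj (D.gt.obj K)).map a =
      (D.W'.obj K).map (D.fs.map a) ≫ (D.β K M₁).inv := by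
  rw [Iso.inv_comp_eq, ← D.β_M_assoc, Iso.hom_inv_id, Category.comp_id]

@[reassoc]
theorem k3' (L : P) (M : X) : (D.W.map (D.adg.unit.app L)).app M =
    (D.W.obj L).map (D.adf.unit.app M) ≫ (D.γ L (D.fs.obj M)).hom ≫
      (D.β (D.gs.obj L) M).inv := by
  rw [← Category.assoc]
  exact (Iso.eq_comp_inv _).2 (D.k3 L M)

@[reassoc]
theorem k1' (K : P') (N : X') : (D.W'.obj K).map (D.adf.counit.app N) =
    (D.β K (D.ft.obj N)).inv ≫ (D.γ (D.gt.obj K) N).hom ≫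
      (D.W'.map (D.adg.counit.app K)).app N := by
  rw [← D.k1, Iso.inv_hom_id_assoc]

variable (F : X ⥤ Y) (K' : P') (α : D.ft ⋙ F ≅ D.W'.obj K')

/-- The natural transformation behind the descent datum. -/
def tau : D.W'.obj K' ⟶ D.W'.obj (D.gs.obj (D.gt.obj K')) where
  app N := α.inv.app N ≫ F.map (D.adf.unit.app (D.ft.obj N)) ≫
    α.hom.app (D.fs.obj (D.ft.obj N)) ≫ (D.β K' (D.ft.obj N)).inv ≫ (D.γ (D.gt.obj K') N).hom
  naturality N N₁ a := by
    have h1 : (D.W'.obj K').map a ≫ α.inv.app N₁ = α.inv.app N ≫ F.map (D.ft.map a) :=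
      α.inv.naturality a
    have h2 : F.map (D.ft.map a) ≫ F.map (D.adf.unit.app (D.ft.obj N₁)) =
        F.map (D.adf.unit.app (D.ft.obj N)) ≫ F.map (D.ft.map (D.fs.map (D.ft.map a))) := by
      rw [← F.map_comp, ← F.map_comp]
      exact congrArg F.map (D.adf.unit.naturality (D.ft.map a))
    have h3 : F.map (D.ft.map (D.fs.map (D.ft.map a))) ≫ α.hom.app (D.fs.obj (D.ft.obj N₁)) =
        α.hom.app (D.fs.obj (D.ft.obj N)) ≫ (D.W'.obj K').map (D.fs.map (D.ft.map a)) :=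
      α.hom.naturality (D.fs.map (D.ft.map a))
    rw [reassoc_of% h1, reassoc_of% h2, reassoc_of% h3, ← D.β_M_inv_assoc, D.γ_N]
    simp only [Category.assoc]

variable {F K'}

/-- `F(f_* f^* M) ≅ W (g_* K') M`. -/
def eB (M : X) : F.obj (D.ft.obj (D.fs.obj M)) ≅ (D.W.obj (D.gt.obj K')).obj M :=
  α.app (D.fs.obj M) ≪≫ (D.β K' M).symm

/-- `F(f_* f^* f_* f^* M) ≅ W (g_* g^* g_* K') M`. -/
def eD (M : X) : F.obj (D.ft.obj (D.fs.obj (D.ft.obj (D.fs.obj M)))) ≅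
    (D.W.obj (D.gt.obj (D.gs.obj (D.gt.obj K')))).obj M :=
  α.app (D.fs.obj (D.ft.obj (D.fs.obj M))) ≪≫ (D.β K' (D.ft.obj (D.fs.obj M))).symm ≪≫
    D.γ (D.gt.obj K') (D.fs.obj M) ≪≫ (D.β (D.gs.obj (D.gt.obj K')) M).symm

theorem eB_nat {M M₁ : X} (a : M ⟶ M₁) :
    F.map (D.ft.map (D.fs.map a)) ≫ (D.eB α M₁).hom =
      (D.eB α M).hom ≫ (D.W.obj (D.gt.obj K')).map a := by
  have h3 : F.map (D.ft.map (D.fs.map a)) ≫ α.hom.app (D.fs.obj M₁) =
      α.hom.app (D.fs.obj M) ≫ (D.W'.obj K').map (D.fs.map a) := α.hom.naturality (D.fs.map a)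
  simp only [eB, Iso.trans_hom, Iso.symm_hom, Iso.app_hom, Category.assoc]
  rw [reassoc_of% h3, ← D.β_M_inv]

theorem d0 (φ : K' ⟶ D.gs.obj (D.gt.obj K')) (hφ : D.W'.map φ = D.tau F K' α) (M : X) :
    F.map (D.adf.unit.app (D.ft.obj (D.fs.obj M))) ≫ (D.eD α M).hom =
      (D.eB α M).hom ≫ (D.W.map (D.gt.map φ)).app M := by
  simp only [eB, eD, Iso.trans_hom, Iso.symm_hom, Iso.app_hom, Category.assoc]
  rw [D.β_K_inv, hφ]
  simp only [tau, Category.assoc]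
  rw [← NatTrans.comp_app_assoc, Iso.hom_inv_id, NatTrans.id_app]
  erw [Category.id_comp]

theorem d1 (M : X) :
    F.map (D.ft.map (D.fs.map (D.adf.unit.app M))) ≫ (D.eD α M).hom =
      (D.eB α M).hom ≫ (D.W.map (D.adg.unit.app (D.gt.obj K'))).app M := by
  have h3 : F.map (D.ft.map (D.fs.map (D.adf.unit.app M))) ≫
      α.hom.app (D.fs.obj (D.ft.obj (D.fs.obj M))) =
      α.hom.app (D.fs.obj M) ≫ (D.W'.obj K').map (D.fs.map (D.adf.unit.app M)) :=
    α.hom.naturality (D.fs.map (D.adf.unit.app M))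
  simp only [eB, eD, Iso.trans_hom, Iso.symm_hom, Iso.app_hom, Category.assoc]
  rw [D.k3', reassoc_of% h3, D.β_M_inv_assoc]
  rfl

theorem phi_counit [D.W'.Faithful] (φ : K' ⟶ D.gs.obj (D.gt.obj K'))
    (hφ : D.W'.map φ = D.tau F K' α) : φ ≫ D.adg.counit.app K' = 𝟙 K' := by
  apply D.W'.map_injective
  rw [D.W'.map_comp, hφ, D.W'.map_id]
  ext N
  rw [NatTrans.comp_app, NatTrans.id_app]
  simp only [tau, Category.assoc]
  rw [← D.k1']
  have h3 : α.hom.app (D.fs.obj (D.ft.obj N)) ≫ (D.W'.obj K').map (D.adf.counit.app N) =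
      F.map (D.ft.map (D.adf.counit.app N)) ≫ α.hom.app N :=
    (α.hom.naturality (D.adf.counit.app N)).symm
  have h4 : F.map (D.adf.unit.app (D.ft.obj N)) ≫ F.map (D.ft.map (D.adf.counit.app N)) =
      𝟙 _ := by
    rw [← F.map_comp, D.adf.right_triangle_components]
    exact F.map_id _
  rw [h3, reassoc_of% h4]
  exact (NatTrans.comp_app _ _ _).symm.trans (by rw [Iso.inv_hom_id, NatTrans.id_app])

theorem phi_coassoc [D.W'.Faithful] (φ : K' ⟶ D.gs.obj (D.gt.obj K'))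
    (hφ : D.W'.map φ = D.tau F K' α) :
    φ ≫ D.gs.map (D.gt.map φ) = φ ≫ D.gs.map (D.adg.unit.app (D.gt.obj K')) := by
  apply D.W'.map_injective
  rw [D.W'.map_comp, D.W'.map_comp]
  ext N
  rw [NatTrans.comp_app, NatTrans.comp_app]
  have h0 := D.d0 α φ hφ (D.ft.obj N)
  have h1 := D.d1 α (D.ft.obj N)
  have e1 : (D.W'.map φ).app N = (α.inv.app N ≫ F.map (D.adf.unit.app (D.ft.obj N)) ≫
      (D.eB α (D.ft.obj N)).hom) ≫ (D.γ (D.gt.obj K') N).hom := by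
    rw [hφ]
    simp only [tau, eB, Iso.trans_hom, Iso.symm_hom, Iso.app_hom, Category.assoc]
  rw [e1]
  simp only [Category.assoc]
  rw [← D.γ_L, ← D.γ_L, ← reassoc_of% h0, ← reassoc_of% h1]
  have h4 : F.map (D.adf.unit.app (D.ft.obj N)) ≫
      F.map (D.adf.unit.app (D.ft.obj (D.fs.obj (D.ft.obj N)))) =
      F.map (D.adf.unit.app (D.ft.obj N)) ≫
        F.map (D.ft.map (D.fs.map (D.adf.unit.app (D.ft.obj N)))) := by
    rw [← F.map_comp, ← F.map_comp]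
    exact congrArg F.map (D.adf.unit.naturality (D.adf.unit.app (D.ft.obj N)))
  rw [reassoc_of% h4]
  rfl

/-- The natural transformation to the functor of the descended kernel. -/
theorem exists_t (φ : K' ⟶ D.gs.obj (D.gt.obj K')) (hφ : D.W'.map φ = D.tau F K' α)
    {K : P} (κ : K ⟶ D.gt.obj K')
    (hE : ∀ M : X, IsEq ((D.W.map κ).app M) ((D.W.map (D.gt.map φ)).app M)
      ((D.W.map (D.adg.unit.app (D.gt.obj K'))).app M)) :
    ∃ t : F ⟶ D.W.obj K, (∀ M, t.app M ≫ (D.W.map κ).app M =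
        F.map (D.adf.unit.app M) ≫ (D.eB α M).hom) ∧
      ∀ M, IsEq (F.map (D.adf.unit.app M)) (F.map (D.adf.unit.app (D.ft.obj (D.fs.obj M))))
        (F.map (D.ft.map (D.fs.map (D.adf.unit.app M)))) → IsIso (t.app M) := by
  have hw : ∀ M : X, (F.map (D.adf.unit.app M) ≫ (D.eB α M).hom) ≫
      (D.W.map (D.gt.map φ)).app M = (F.map (D.adf.unit.app M) ≫ (D.eB α M).hom) ≫
        (D.W.map (D.adg.unit.app (D.gt.obj K'))).app M := by
    intro M
    rw [Category.assoc, Category.assoc, ← D.d0 α φ hφ M, ← D.d1 α M, ← Category.assoc,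
      ← Category.assoc, ← F.map_comp, ← F.map_comp]
    exact congrArg (fun z => F.map z ≫ (D.eD α M).hom) (D.adf.unit.naturality (D.adf.unit.app M))
  choose t ht using fun M => (hE M).lift _ (hw M)
  refine ⟨⟨t, fun M M₁ a => ?_⟩, ht, fun M hM => ?_⟩
  · have := (hE M₁).mono
    rw [← cancel_mono ((D.W.map κ).app M₁), Category.assoc, Category.assoc, ht,
      (D.W.map κ).naturality a, reassoc_of% (ht M), ← D.eB_nat α a, ← Category.assoc,
      ← Category.assoc, ← F.map_comp, ← F.map_comp]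
    exact congrArg (fun z => F.map z ≫ (D.eB α M₁).hom) (D.adf.unit.naturality a)
  · exact IsEq.isIso_of hM (hE M) (t M) (D.eB α M) (D.eD α M) (ht M).symm
      (D.d0 α φ hφ M) (D.d1 α M)

/-- `W K` applied to the fork of `M` is `W` applied to the fork of `K`. -/
theorem isEq_unit (L : P) (M : X)
    (h : IsEq ((D.W.map (D.adg.unit.app L)).app M)
      ((D.W.map (D.adg.unit.app (D.gt.obj (D.gs.obj L)))).app M)
      ((D.W.map (D.gt.map (D.gs.map (D.adg.unit.app L)))).app M)) :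
    IsEq ((D.W.obj L).map (D.adf.unit.app M))
      ((D.W.obj L).map (D.adf.unit.app (D.ft.obj (D.fs.obj M))))
      ((D.W.obj L).map (D.ft.map (D.fs.map (D.adf.unit.app M)))) := by
  have h' : IsEq ((D.W.map (D.adg.unit.app L)).app M)
      ((D.W.map (D.gt.map (D.gs.map (D.adg.unit.app L)))).app M)
      ((D.W.map (D.adg.unit.app (D.gt.obj (D.gs.obj L)))).app M) :=
    ⟨h.mono, h.w.symm, fun z hz => h.lift z hz.symm⟩
  let s : ∀ (L : P) (M : X), (D.W.obj L).obj (D.ft.obj (D.fs.obj M)) ≅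
      (D.W.obj (D.gt.obj (D.gs.obj L))).obj M := fun L M =>
    D.γ L (D.fs.obj M) ≪≫ (D.β (D.gs.obj L) M).symm
  have s3 : ∀ (L : P) (M : X), (D.W.obj L).map (D.adf.unit.app M) ≫ (s L M).hom =
      (D.W.map (D.adg.unit.app L)).app M := fun L M => (D.k3' L M).symm
  have sM : ∀ (L : P) {M M₁ : X} (a : M ⟶ M₁),
      (D.W.obj L).map (D.ft.map (D.fs.map a)) ≫ (s L M₁).hom =
        (s L M).hom ≫ (D.W.obj (D.gt.obj (D.gs.obj L))).map a := by
    intro L M M₁ a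
    simp only [s, Iso.trans_hom, Iso.symm_hom, Category.assoc]
    rw [D.γ_N_assoc, ← D.β_M_inv]
  have sL : ∀ {L L₁ : P} (a : L ⟶ L₁) (M : X),
      (D.W.map a).app (D.ft.obj (D.fs.obj M)) ≫ (s L₁ M).hom =
        (s L M).hom ≫ (D.W.map (D.gt.map (D.gs.map a))).app M := by
    intro L L₁ a M
    simp only [s, Iso.trans_hom, Iso.symm_hom, Category.assoc]
    rw [D.γ_L_assoc, ← D.β_K_inv]
  let e2 : (D.W.obj L).obj (D.ft.obj (D.fs.obj (D.ft.obj (D.fs.obj M)))) ≅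
      (D.W.obj (D.gt.obj (D.gs.obj (D.gt.obj (D.gs.obj L))))).obj M :=
    s L (D.ft.obj (D.fs.obj M)) ≪≫ s (D.gt.obj (D.gs.obj L)) M
  refine IsEq.of_iso h' (Iso.refl _) (s L M).symm e2.symm ?_ ?_ ?_
  · rw [Iso.symm_hom, Iso.comp_inv_eq, Iso.refl_hom, Category.id_comp, s3]
  · rw [Iso.symm_hom, Iso.symm_hom, Iso.comp_inv_eq, Category.assoc]
    simp only [e2, Iso.trans_hom]
    rw [reassoc_of% (s3 L (D.ft.obj (D.fs.obj M))), sL, Iso.inv_hom_id_assoc]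
  · rw [Iso.symm_hom, Iso.symm_hom, Iso.comp_inv_eq, Category.assoc]
    simp only [e2, Iso.trans_hom]
    rw [reassoc_of% (sM L (D.adf.unit.app M)), s3, Iso.inv_hom_id_assoc]

end Data

end K308.DescAbs
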