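import Mathlib.RingTheory.Support
import Mathlib.RingTheory.Artinian.Module
import Mathlib.RingTheory.Nakayama
import Mathlib.RingTheory.Noetherian.Basic
import Mathlib.RingTheory.Ideal.Maximal
import Mathlib.RingTheory.Ideal.Quotient.Operations
import Mathlib.Algebra.Module.Torsion.Basic

/-!
# A finiteness criterion through thickened points

If a finite `B`-module `E` generates the `R`-module `M` modulo every power of the ideal `J`, then for a
maximal ideal `𝔪` of `B` the quotient `M / 𝔪 M` is killed by `c J ^ n` for an element `c` with `c ≡ 1`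
modulo `J`. Hence away from `c` every prime in the support of `M` above `𝔪` contains `J`.
-/

set_option autoImplicit false

namespace K308.FinSupp

section

variable {B R E M : Type*} [CommRing B] [CommRing R] [Algebra B R] [AddCommGroup E] [Module B E]
  [AddCommGroup M] [Module R M] (ρ : E →+ M)
  (hρ : ∀ (b : B) (e : E), ρ (b • e) = algebraMap B R b • ρ e) (J : Ideal R)

include hρ in
theorem exists_stable [Module.Finite B E]
    (hJ : ∀ (j : ℕ) (m : M), ∃ e, m - ρ e ∈ (J ^ j • ⊤ : Submodule R M)) (𝔪 : Ideal B) [𝔪.IsMaximal] :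
    ∃ j : ℕ, (J ^ j • ⊤ : Submodule R M) ≤
      J ^ (j + 1) • ⊤ ⊔ 𝔪.map (algebraMap B R) • ⊤ := by
  let N : Submodule R M := 𝔪.map (algebraMap B R) • ⊤
  let D : ℕ → Submodule R M := fun j => J ^ j • ⊤ ⊔ N
  let L : ℕ → Submodule B E := fun j =>
    { carrier := {e | ρ e ∈ D j}
      add_mem' := fun {a b} ha hb => by
        change ρ (a + b) ∈ D j
        rw [map_add]
        exact add_mem ha hb
      zero_mem' := by
        change ρ 0 ∈ D j
        rw [map_zero]
        exact zero_mem _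
      smul_mem' := fun c x hx => by
        change ρ (c • x) ∈ D j
        rw [hρ]
        exact Submodule.smul_mem _ _ hx }
  have hL : ∀ j e, e ∈ L j ↔ ρ e ∈ (J ^ j • ⊤ ⊔ N : Submodule R M) := fun _ _ => Iff.rfl
  have hanti : ∀ j k, j ≤ k → L k ≤ L j := fun j k hjk e he => by
    rw [hL] at he ⊢
    exact (sup_le_sup_right (Submodule.smul_mono_left (Ideal.pow_le_pow_right hjk)) N :
      (J ^ k • ⊤ ⊔ N : Submodule R M) ≤ J ^ j • ⊤ ⊔ N) he
  have hart : IsArtinian B (E ⧸ (𝔪 • ⊤ : Submodule B E)) := by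
    let _ : Field (B ⧸ 𝔪) := Ideal.Quotient.field 𝔪
    have h1 : Module.Finite (B ⧸ 𝔪) (E ⧸ (𝔪 • ⊤ : Submodule B E)) :=
      Module.Finite.of_restrictScalars_finite B _ _
    have h2 : IsArtinian (B ⧸ 𝔪) (E ⧸ (𝔪 • ⊤ : Submodule B E)) := inferInstance
    exact isArtinian_of_surjective_algebraMap (R := B ⧸ 𝔪) Ideal.Quotient.mk_surjective
  let f : ℕ →o (Submodule B (E ⧸ (𝔪 • ⊤ : Submodule B E)))ᵒᵈ :=
    { toFun := fun j => OrderDual.toDual ((L j).map (Submodule.mkQ _))
      monotone' := fun j k hjk => Submodule.map_mono (hanti j k hjk) }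
  obtain ⟨j, hj⟩ := IsArtinian.monotone_stabilizes f
  refine ⟨j, fun x hx => ?_⟩
  obtain ⟨e, he⟩ := hJ (j + 1) x
  have h1 : e ∈ L j := by
    rw [hL]
    have h2 : ρ e = x - (x - ρ e) := by abel
    rw [h2]
    exact Submodule.mem_sup_left (sub_mem hx
      (Submodule.smul_mono_left (Ideal.pow_le_pow_right (Nat.le_succ j)) he))
  have h3 : (L j).map (Submodule.mkQ (𝔪 • ⊤ : Submodule B E)) =
      (L (j + 1)).map (Submodule.mkQ (𝔪 • ⊤ : Submodule B E)) :=
    congrArg OrderDual.ofDual (hj (j + 1) (Nat.le_succ j))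
  have h4 : Submodule.mkQ (𝔪 • ⊤ : Submodule B E) e ∈
      (L (j + 1)).map (Submodule.mkQ (𝔪 • ⊤ : Submodule B E)) := by
    rw [← h3]
    exact Submodule.mem_map_of_mem h1
  obtain ⟨e', he', h5⟩ := h4
  have h6 : e - e' ∈ (𝔪 • ⊤ : Submodule B E) := by
    rw [← Submodule.Quotient.mk_eq_zero, Submodule.Quotient.mk_sub, sub_eq_zero]
    exact h5.symm
  have h7 : ∀ z ∈ (𝔪 • ⊤ : Submodule B E), ρ z ∈ N := by
    intro z hz
    refine Submodule.smul_induction_on hz (fun b hb y _ => ?_) (fun a b ha hb => ?_)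
    · rw [hρ]
      exact Submodule.smul_mem_smul (Ideal.mem_map_of_mem _ hb) trivial
    · rw [map_add]
      exact add_mem ha hb
  have h8 : x = (x - ρ e) + (ρ e' + ρ (e - e')) := by
    rw [map_sub]
    abel
  rw [h8]
  refine add_mem (Submodule.mem_sup_left he) (add_mem he' (Submodule.mem_sup_right (h7 _ h6)))

include hρ in
/-- Away from an element `c ≡ 1` modulo `J`, every prime in the support of `M` above `𝔪` contains `J`. -/
theorem exists_sub_one_mem [IsNoetherianRing R] [Module.Finite R M] [Module.Finite B E]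
    (hJ : ∀ (j : ℕ) (m : M), ∃ e, m - ρ e ∈ (J ^ j • ⊤ : Submodule R M)) (𝔪 : Ideal B) [𝔪.IsMaximal] :
    ∃ c : R, c - 1 ∈ J ∧ ∀ Q : Ideal R, Q.IsPrime → Module.annihilator R M ≤ Q →
      𝔪.map (algebraMap B R) ≤ Q → c ∉ Q → J ≤ Q := by
  obtain ⟨j, hj⟩ := exists_stable ρ hρ J hJ 𝔪
  let N : Submodule R M := 𝔪.map (algebraMap B R) • ⊤
  have h1 : (J ^ j • ⊤ : Submodule R (M ⧸ N)) ≤ J • (J ^ j • ⊤ : Submodule R (M ⧸ N)) := by
    have h2 := Submodule.map_mono (f := N.mkQ) hj
    rw [Submodule.map_sup, Submodule.map_smul'', Submodule.map_smul'', Submodule.map_top,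
      Submodule.range_mkQ] at h2
    have h3 : N.map N.mkQ = ⊥ := by
      rw [Submodule.eq_bot_iff]
      rintro _ ⟨x, hx, rfl⟩
      exact (Submodule.Quotient.mk_eq_zero N).2 hx
    rw [show (𝔪.map (algebraMap B R) • ⊤ : Submodule R M) = N from rfl, h3, sup_bot_eq, pow_succ',
      Submodule.mul_smul] at h2
    exact h2
  have hfg : (J ^ j • ⊤ : Submodule R (M ⧸ N)).FG := IsNoetherian.noetherian _
  obtain ⟨c, hc, hc0⟩ := Submodule.exists_sub_one_mem_and_smul_eq_zero_of_fg_of_le_smul J _ hfg h1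
  refine ⟨c, hc, fun Q hQ hann hm hcQ => ?_⟩
  have h4 : (⟨Q, hQ⟩ : PrimeSpectrum R) ∈ Module.support R (M ⧸ N) := by
    rw [Module.support_quotient]
    exact ⟨Module.mem_support_iff_of_finite.2 hann, hm⟩
  rw [Module.mem_support_iff_of_finite] at h4
  have h5 : J ^ j ≤ Q := by
    intro r hr
    have h6 : c * r ∈ Module.annihilator R (M ⧸ N) := by
      rw [Module.mem_annihilator]
      intro m
      rw [mul_smul]
      exact hc0 _ (Submodule.smul_mem_smul hr trivial)
    exact (hQ.mem_or_mem (h4 h6)).resolve_left hcQ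
  exact hQ.le_of_pow_le h5

end

end K308.FinSupp
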