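import Groth.Agent.FunMor.K308.FSUnit
import Groth.Agent.FunMor.K308.FSAlg
import Groth.Agent.FormalA.AnnIdeal
import Groth.Agent.Ega3B.DevQC
import Mathlib.AlgebraicGeometry.ZariskisMainTheorem

/-!
# The support of the kernel of a right exact Fourier–Mukai type functor is quasi-finite over `Y`
-/

set_option autoImplicit false
universe u
open CategoryTheory CategoryTheory.Limits AlgebraicGeometry TopologicalSpace

namespace K308.FinSupp

open Groth.Agent.CohqA.PullbackSections Groth.Agent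

section

variable {X Y P S : Scheme.{u}} {p : P ⟶ X} {q : P ⟶ Y} {a : X ⟶ S} {b : Y ⟶ S}

/-- The fibres over pairs of a closed point of `X` and a point of `Y` are discrete. -/
theorem isDiscrete_inter (sq : IsPullback p q a b) [LocallyOfFiniteType a] {x : X}
    (hx : IsClosed {x}) (y : Y) : IsDiscrete (p ⁻¹' {x} ∩ q ⁻¹' {y}) := by
  let i := (Scheme.IdealSheafData.vanishingIdeal ⟨{x}, hx⟩).subschemeι
  have hi : Set.range i = {x} := by
    rw [Scheme.IdealSheafData.range_subschemeι]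
    rfl
  have hinj : Function.Injective (i ≫ a) := by
    have h0 : ∀ t, i t = x := fun t => by
      have h : i t ∈ Set.range i := ⟨t, rfl⟩
      rw [hi] at h
      exact h
    intro t t' _
    exact i.isClosedEmbedding.injective ((h0 t).trans (h0 t').symm)
  have h1 : LocallyQuasiFinite (i ≫ a) := .of_injective hinj
  let g := pullback.snd i p
  have h2 : IsPullback (pullback.fst i p) (g ≫ q) (i ≫ a) b :=
    (IsPullback.of_hasPullback i p).paste_vert sq
  have h3 : LocallyQuasiFinite (g ≫ q) := MorphismProperty.of_isPullback h2 h1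
  have h4 := ((g ≫ q).isDiscrete_preimage_singleton y).image g.isClosedEmbedding.isInducing
  refine h4.mono ?_
  rintro z ⟨hz, hz'⟩
  have h5 : z ∈ Set.range g := by
    rw [Scheme.Pullback.range_snd, hi]
    exact hz
  obtain ⟨t, rfl⟩ := h5
  refine ⟨t, ?_, rfl⟩
  change (g ≫ q) t = y
  rw [Scheme.Hom.comp_apply]
  exact hz'

/-- A section vanishes at a point of a closed subset if it belongs to its ideal. -/
theorem notMem_basicOpen (Z : Closeds X) {U : X.Opens} (hU : IsAffineOpen U) {r : Γ(X, U)}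
    (hr : r ∈ (Scheme.IdealSheafData.vanishingIdeal Z).ideal ⟨U, hU⟩) {x : X} (hx : x ∈ Z) :
    x ∉ X.basicOpen r := by
  intro h
  have h1 : x ∈ (Scheme.IdealSheafData.vanishingIdeal Z).support := hx
  rw [Scheme.IdealSheafData.mem_support_iff_of_mem (U := ⟨U, hU⟩) (X.basicOpen_le r h),
    Scheme.mem_zeroLocus_iff] at h1
  exact h1 r hr h

theorem mem_of_forall_notMem (Z : Closeds X) {U : X.Opens} (hU : IsAffineOpen U) {x : X}
    (hxU : x ∈ U) (h : ∀ r ∈ (Scheme.IdealSheafData.vanishingIdeal Z).ideal ⟨U, hU⟩, x ∉ X.basicOpen r) :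
    x ∈ Z := by
  change x ∈ (Scheme.IdealSheafData.vanishingIdeal Z).support
  rw [Scheme.IdealSheafData.mem_support_iff_of_mem (U := ⟨U, hU⟩) hxU, Scheme.mem_zeroLocus_iff]
  exact h

/-- The values of `appLE` at points. -/
theorem appLE_mem_ker {f : P ⟶ X} {U : X.Opens} {W : P.Opens} (e : W ≤ f ⁻¹ᵁ U) {z : P} (hz : z ∈ W)
    (r : Γ(X, U)) : (f.appLE U W e).hom r ∈ RingHom.ker (P.evaluation W z hz).hom ↔
      f z ∉ X.basicOpen r := by
  rw [RingHom.mem_ker]
  refine (Scheme.evaluation_eq_zero_iff_notMem_basicOpen _ z hz _).trans (not_congr ?_)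
  rw [Scheme.Hom.appLE, CommRingCat.hom_comp, RingHom.comp_apply, Scheme.basicOpen_res,
    ← Scheme.preimage_basicOpen]
  exact ⟨fun h => h.2, fun h => ⟨hz, h⟩⟩

/-- A kernel on `P = X ×_S Y` which maps the epimorphisms `O_X ⟶ i_* i^* O_X`, `i` a closed immersion, to
epimorphisms. -/
def Good (p : P ⟶ X) (q : P ⟶ Y) (K : P.Modules) : Prop :=
  ∀ (T : Scheme.{u}) (i : T ⟶ X), IsClosedImmersion i →
    Epi ((K355.FM p q K).map (pbUnit i (Coh.structureModule X)))

/-- Near a point above closed points `x`, `y` the support of `K` meets the fibre over `y` only above `x`. -/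
theorem exists_open (sq : IsPullback p q a b) [IsAffine S] [QuasiCompact q] [QuasiSeparated q]
    [IsLocallyNoetherian P] {K : P.Modules} (hK : Coh.IsCoh K) (hG : Good p q K)
    (hC : Coh.IsCoh ((Coh.push q).obj K)) {x : X} (hx : IsClosed {x}) {y : Y} (hy : IsClosed {y}) {z : P}
    (hzx : p z = x) (hzy : q z = y) :
    ∃ O : P.Opens, z ∈ O ∧ ∀ z' ∈ O, z' ∈ CohB1.support K → q z' = y → p z' = x := by
  obtain ⟨U, hU, hxU, -⟩ := exists_isAffineOpen_mem_and_subset (x := x) (U := (⊤ : X.Opens)) trivial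
  obtain ⟨V, hV, hyV, -⟩ := exists_isAffineOpen_mem_and_subset (x := y) (U := (⊤ : Y.Opens)) trivial
  have hW : IsAffineOpen (p ⁻¹ᵁ U ⊓ q ⁻¹ᵁ V) := by
    have h1 : IsAffine _ := hU
    have h2 : IsAffine _ := hV
    have h3 : IsAffine _ := (isAffineOpen_top S)
    exact .of_isIso (Scheme.Hom.isPullback_resLE sq (US := ⊤) (UT := V) (UX := U) le_top le_top
      (UY := p ⁻¹ᵁ U ⊓ q ⁻¹ᵁ V) rfl).isoPullback.hom
  set W : P.Opens := p ⁻¹ᵁ U ⊓ q ⁻¹ᵁ V with hWdef
  have hWU : W ≤ p ⁻¹ᵁ U := inf_le_left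
  have hWV : W ≤ q ⁻¹ᵁ V := inf_le_right
  have hzW : z ∈ W := ⟨by change p z ∈ U; rw [hzx]; exact hxU, by change q z ∈ V; rw [hzy]; exact hyV⟩
  let Z : Closeds X := ⟨{x}, hx⟩
  let 𝓘 := Scheme.IdealSheafData.vanishingIdeal Z
  let J : Ideal Γ(P, W) := (𝓘.ideal ⟨U, hU⟩).map (p.appLE U W hWU).hom
  let _ : Algebra Γ(Y, V) Γ(P, W) := (q.appLE V W hWV).hom.toAlgebra
  have hEfin : Module.Finite Γ(Y, V) Γ((Coh.push q).obj K, V) := Ega3B.DevQC.finite_sections hC hV
  have hMfin : Module.Finite Γ(P, W) Γ(K, W) := Ega3B.DevQC.finite_sections hK hW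
  have hNoeth : IsNoetherianRing Γ(P, W) := IsLocallyNoetherian.component_noetherian ⟨W, hW⟩
  let ρ : Γ((Coh.push q).obj K, V) →+ Γ(K, W) :=
    (K.presheaf.map (homOfLE hWV).op).hom
  have hρ : ∀ (c : Γ(Y, V)) (e : Γ((Coh.push q).obj K, V)),
      ρ (c • e) = algebraMap Γ(Y, V) Γ(P, W) c • ρ e := by
    intro c e
    exact Groth.Agent.Fdesc.QCohStalk.map_smul' K hWV (q.app V c) e
  have hJ : ∀ (j : ℕ) (m : Γ(K, W)), ∃ e, m - ρ e ∈ (J ^ j • ⊤ : Submodule Γ(P, W) Γ(K, W)) := by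
    intro j m
    have hi : ∀ t : (𝓘 ^ j).subscheme, (𝓘 ^ j).subschemeι t ∈ U := by
      intro t
      have h1 : (𝓘 ^ j).subschemeι t ∈ ((𝓘 ^ j).support : Set X) := by
        rw [← Scheme.IdealSheafData.range_subschemeι]
        exact ⟨t, rfl⟩
      have h2 : ((𝓘 ^ j).support : Set X) ⊆ {x} := by
        cases j with
        | zero =>
          rw [pow_zero]
          intro w hw
          exact absurd hw (Set.notMem_empty w)
        | succ j => exact subset_rfl
      rw [show (𝓘 ^ j).subschemeι t = x from h2 h1]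
      exact hxU
    obtain ⟨e, he⟩ := exists_sub_mem (IsPullback.of_hasPullback (𝓘 ^ j).subschemeι p) q K hK.1
      (hG _ _ inferInstance) hV hU hi hW m
    refine ⟨e, ?_⟩
    rw [Scheme.IdealSheafData.ker_subschemeι_app (𝓘 ^ j) ⟨U, hU⟩, Scheme.IdealSheafData.ideal_pow,
      Pi.pow_apply, Ideal.map_pow] at he
    exact he
  have h𝔪 : (hV.primeIdealOf ⟨y, hyV⟩).asIdeal.IsMaximal := hV.primeIdealOf_isMaximal_of_isClosed ⟨y, hyV⟩ hy
  obtain ⟨c, hc, hcQ⟩ := exists_sub_one_mem ρ hρ J hJ (hV.primeIdealOf ⟨y, hyV⟩).asIdeal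
  have h𝔪y : ∀ r ∈ (hV.primeIdealOf ⟨y, hyV⟩).asIdeal, y ∉ Y.basicOpen r := by
    intro r hr h
    rw [hV.primeIdealOf_eq_map_closedPoint] at hr
    have h1 : Y.presheaf.germ V y hyV r ∈ IsLocalRing.maximalIdeal (Y.presheaf.stalk y) := hr
    rw [IsLocalRing.mem_maximalIdeal, mem_nonunits_iff] at h1
    exact h1 ((Y.mem_basicOpen _ _ hyV).1 h)
  have hJz : J ≤ RingHom.ker (P.evaluation W z hzW).hom := by
    rw [Ideal.map_le_iff_le_comap]
    intro r hr
    rw [Ideal.mem_comap, appLE_mem_ker hWU hzW]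
    exact notMem_basicOpen Z hU hr hzx
  refine ⟨P.basicOpen c, ?_, fun z' hz' hs hz'y => ?_⟩
  · rw [← Scheme.evaluation_ne_zero_iff_mem_basicOpen _ z hzW]
    intro h
    have h1 : (P.evaluation W z hzW).hom (c - 1) = 0 := hJz hc
    rw [map_sub, map_one, show (P.evaluation W z hzW).hom c = 0 from h, zero_sub, neg_eq_zero] at h1
    exact one_ne_zero h1
  · have hz'W : z' ∈ W := P.basicOpen_le c hz'
    have h1 : J ≤ RingHom.ker (P.evaluation W z' hz'W).hom := by
      refine hcQ _ (RingHom.ker_isPrime _) ?_ ?_ ?_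
      · intro r hr
        rw [RingHom.mem_ker]
        refine (Scheme.evaluation_eq_zero_iff_notMem_basicOpen _ z' hz'W r).2 ?_
        rw [← FormalA.AnnIdeal.support_annIdeal K hK.1 hK.2, SetLike.mem_coe,
          Scheme.IdealSheafData.mem_support_iff_of_mem (U := ⟨W, hW⟩) hz'W, Scheme.mem_zeroLocus_iff] at hs
        exact hs r hr
      · rw [Ideal.map_le_iff_le_comap]
        intro r hr
        exact (appLE_mem_ker hWV hz'W r).2 (by rw [hz'y]; exact h𝔪y r hr)
      · intro h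
        exact (Scheme.evaluation_ne_zero_iff_mem_basicOpen _ z' hz'W c).2 hz' h
    exact mem_of_forall_notMem Z hU hz'W.1 fun r hr =>
      (appLE_mem_ker hWU hz'W r).1 (h1 (Ideal.mem_map_of_mem _ hr))

/-- A criterion for quasi-finiteness at a point of a closed subscheme. -/
theorem quasiFiniteAt_of_open {Z : Scheme.{u}} (ι : Z ⟶ P) [IsClosedImmersion ι]
    [LocallyOfFiniteType (ι ≫ q)] (z : Z) (O : P.Opens) (hz : ι z ∈ O)
    (hO : ∀ w : Z, ι w ∈ O → q (ι w) = q (ι z) → w = z) : (ι ≫ q).QuasiFiniteAt z := by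
  rw [Scheme.Hom.quasiFiniteAt_iff_isOpen_singleton_asFiber]
  have h1 : {(ι ≫ q).asFiber z} = ((ι ≫ q).fiberι ((ι ≫ q) z)) ⁻¹' ((ι ⁻¹ᵁ O : Z.Opens) : Set Z) := by
    ext w
    constructor
    · intro hw
      rw [Set.mem_singleton_iff] at hw
      rw [Set.mem_preimage, hw, Scheme.Hom.fiberι_asFiber]
      exact hz
    · intro hw
      have h2 : (ι ≫ q).fiberι ((ι ≫ q) z) w ∈ (ι ≫ q) ⁻¹' {(ι ≫ q) z} := by
        rw [← Scheme.Hom.range_fiberι]
        exact ⟨w, rfl⟩
      have h3 : (ι ≫ q).fiberι ((ι ≫ q) z) w = z := by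
        refine hO _ hw ?_
        have h4 : (ι ≫ q) ((ι ≫ q).fiberι ((ι ≫ q) z) w) = (ι ≫ q) z := h2
        rw [Scheme.Hom.comp_apply] at h4
        exact h4.trans (Scheme.Hom.comp_apply ι q z)
      refine ((ι ≫ q).fiberι ((ι ≫ q) z)).isEmbedding.injective ?_
      rw [h3, Scheme.Hom.fiberι_asFiber]
  rw [h1]
  exact (ι ⁻¹ᵁ O).isOpen.preimage ((ι ≫ q).fiberι _).continuous

/-- The scheme theoretic support of the kernel is quasi-finite over `Y`. -/
theorem locallyQuasiFinite (sq : IsPullback p q a b) [IsAffine S] [JacobsonSpace S]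
    [LocallyOfFiniteType a] [LocallyOfFiniteType b] [QuasiCompact q] [QuasiSeparated q]
    [IsLocallyNoetherian P] {K : P.Modules} (hK : Coh.IsCoh K) (hG : Good p q K)
    (hC : Coh.IsCoh ((Coh.push q).obj K)) :
    LocallyQuasiFinite ((FormalA.AnnIdeal.annIdeal K hK.1 hK.2).subschemeι ≫ q) := by
  have hp : LocallyOfFiniteType p := MorphismProperty.of_isPullback sq.flip ‹_›
  have hq : LocallyOfFiniteType q := MorphismProperty.of_isPullback sq ‹_›
  have hJX : JacobsonSpace X := LocallyOfFiniteType.jacobsonSpace a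
  have hJY : JacobsonSpace Y := LocallyOfFiniteType.jacobsonSpace b
  have hJP : JacobsonSpace P := LocallyOfFiniteType.jacobsonSpace p
  let ι := (FormalA.AnnIdeal.annIdeal K hK.1 hK.2).subschemeι
  have hJZ : JacobsonSpace (FormalA.AnnIdeal.annIdeal K hK.1 hK.2).subscheme :=
    LocallyOfFiniteType.jacobsonSpace ι
  rw [← Scheme.Hom.quasiFiniteLocus_eq_top_iff]
  by_contra hne
  have h1 : ((ι ≫ q).quasiFiniteLocus.1)ᶜ.Nonempty := by
    rw [Set.nonempty_compl]
    exact fun h => hne (Opens.ext h)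
  obtain ⟨z, hz, hzc⟩ := nonempty_inter_closedPoints h1 (ι ≫ q).quasiFiniteLocus.2.isClosed_compl.isLocallyClosed
  have h2 : IsClosed {ι z} := ι.closePoints_subset_preimage_closedPoints hzc
  have h3 : IsClosed {p (ι z)} := p.closePoints_subset_preimage_closedPoints h2
  have h4 : IsClosed {q (ι z)} := q.closePoints_subset_preimage_closedPoints h2
  obtain ⟨O, hzO, hO⟩ := exists_open sq hK hG hC h3 h4 rfl rfl
  obtain ⟨O', hO'o, hO'⟩ := isOpen_inter_eq_singleton_of_mem_discrete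
    (isDiscrete_inter sq h3 (q (ι z))) (x := ι z) ⟨rfl, rfl⟩
  refine hz (quasiFiniteAt_of_open ι z (O ⊓ ⟨O', hO'o⟩) ⟨hzO, ?_⟩ fun w hw hwq => ?_)
  · have h5 : ι z ∈ O' ∩ (p ⁻¹' {p (ι z)} ∩ q ⁻¹' {q (ι z)}) := by
      rw [hO']
      rfl
    exact h5.1
  · refine ι.isClosedEmbedding.injective ?_
    have h5 : ι w ∈ CohB1.support K := by
      rw [← FormalA.AnnIdeal.range_subschemeι K hK.1 hK.2]
      exact ⟨w, rfl⟩
    have h6 : ι w ∈ O' ∩ (p ⁻¹' {p (ι z)} ∩ q ⁻¹' {q (ι z)}) := ⟨hw.2, hO _ hw.1 h5 hwq, hwq⟩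
    rw [hO'] at h6
    exact h6

end

end K308.FinSupp
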