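import Groth.Agent.FunMor.K308.GeoIso

/-!
# Naturality and compatibilities of the projection and base change isomorphisms
-/

set_option autoImplicit false
universe u
open CategoryTheory CategoryTheory.Limits AlgebraicGeometry MonoidalCategory Functor.LaxMonoidal
open scoped Groth.Agent.Dcoh.MonCat Groth.Agent.Dcoh.MonPull

namespace K308.GeoIso

open Groth.Agent.CohqA.PullbackSections

variable {X S X' S' : Scheme.{u}} (f : X ⟶ S) (g : S' ⟶ S) (g' : X' ⟶ X) (f' : X' ⟶ S')
  (w : g' ≫ f = f' ≫ g)

theorem betaMap_K (M : S.Modules) {K K₁ : X'.Modules} (a : K ⟶ K₁) :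
    ((Scheme.Modules.pullback g).obj M ◁ (Scheme.Modules.pushforward f').map a) ≫
        betaMap f g g' f' w M K₁ =
      betaMap f g g' f' w M K ≫ (Scheme.Modules.pushforward f').map
        ((Scheme.Modules.pullback g').obj ((Scheme.Modules.pullback f).obj M) ◁ a) := by
  unfold betaMap
  rw [← Category.assoc, whisker_exchange, Category.assoc, Category.assoc]
  congr 1
  exact (μ_natural_right (F := Scheme.Modules.pushforward f') _ a)

theorem betaMap_M {M M₁ : S.Modules} (a : M ⟶ M₁) (K : X'.Modules) :
    ((Scheme.Modules.pullback g).map a ▷ (Scheme.Modules.pushforward f').obj K) ≫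
        betaMap f g g' f' w M₁ K =
      betaMap f g g' f' w M K ≫ (Scheme.Modules.pushforward f').map
        ((Scheme.Modules.pullback g').map ((Scheme.Modules.pullback f).map a) ▷ K) := by
  unfold betaMap
  rw [← Category.assoc, ← comp_whiskerRight, chat_naturality, comp_whiskerRight, Category.assoc,
    Category.assoc]
  congr 1
  exact (μ_natural_left (F := Scheme.Modules.pushforward f') _ K)

theorem gammaMap_L {L L₁ : S'.Modules} (a : L ⟶ L₁) (N : X.Modules) :
    ((Scheme.Modules.pullback g).obj ((Scheme.Modules.pushforward f).obj N) ◁ a) ≫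
        gammaMap f g g' f' w L₁ N =
      gammaMap f g g' f' w L N ≫ (Scheme.Modules.pushforward f').map
        ((Scheme.Modules.pullback g').obj N ◁ (Scheme.Modules.pullback f').map a) := by
  have h1 : a ≫ pbUnit f' L₁ = pbUnit f' L ≫ (Scheme.Modules.pushforward f').map
      ((Scheme.Modules.pullback f').map a) :=
    (Scheme.Modules.pullbackPushforwardAdjunction f').unit.naturality a
  have h2 := μ_natural_right (F := Scheme.Modules.pushforward f')
    ((Scheme.Modules.pullback g').obj N) ((Scheme.Modules.pullback f').map a)
  unfold gammaMap
  rw [← id_tensorHom, ← Category.assoc, tensorHom_comp_tensorHom, Category.id_comp, h1,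
    Category.assoc, ← h2, ← id_tensorHom, ← Category.assoc, tensorHom_comp_tensorHom]
  exact congrArg (fun z => (z ⊗ₘ _) ≫ μ (Scheme.Modules.pushforward f') _ _)
    (Category.comp_id ((K355.bcMap f g g' f' w).app N)).symm

theorem gammaMap_N (L : S'.Modules) {N N₁ : X.Modules} (a : N ⟶ N₁) :
    ((Scheme.Modules.pullback g).map ((Scheme.Modules.pushforward f).map a) ▷ L) ≫
        gammaMap f g g' f' w L N₁ =
      gammaMap f g g' f' w L N ≫ (Scheme.Modules.pushforward f').map
        ((Scheme.Modules.pullback g').map a ▷ (Scheme.Modules.pullback f').obj L) := by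
  have h1 : (Scheme.Modules.pullback g).map ((Scheme.Modules.pushforward f).map a) ≫
      (K355.bcMap f g g' f' w).app N₁ = (K355.bcMap f g g' f' w).app N ≫
        (Scheme.Modules.pushforward f').map ((Scheme.Modules.pullback g').map a) :=
    (K355.bcMap f g g' f' w).naturality a
  have h2 := μ_natural_left (F := Scheme.Modules.pushforward f')
    ((Scheme.Modules.pullback g').map a) ((Scheme.Modules.pullback f').obj L)
  unfold gammaMap
  rw [← tensorHom_id, ← Category.assoc, tensorHom_comp_tensorHom, Category.id_comp, h1,
    Category.assoc, ← h2, ← tensorHom_id, ← Category.assoc, tensorHom_comp_tensorHom,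
    Category.comp_id]

/-- The unit of `f'` on the kernel is the unit of `f` on the argument. -/
theorem k3 (L : S'.Modules) (M : S.Modules) :
    ((Scheme.Modules.pullback g).obj M ◁ pbUnit f' L) ≫
        betaMap f g g' f' w M ((Scheme.Modules.pullback f').obj L) =
      ((Scheme.Modules.pullback g).map (pbUnit f M) ▷ L) ≫
        gammaMap f g g' f' w L ((Scheme.Modules.pullback f).obj M) := by
  unfold betaMap gammaMap chat
  rw [← Category.assoc, ← Category.assoc]
  congr 1
  rw [tensorHom_def, ← Category.assoc, ← comp_whiskerRight, whisker_exchange]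
  rfl

theorem k1 (K : X'.Modules) (N : X.Modules) :
    betaMap f g g' f' w ((Scheme.Modules.pushforward f).obj N) K ≫
        (Scheme.Modules.pushforward f').map ((Scheme.Modules.pullback g').map
          ((Scheme.Modules.pullbackPushforwardAdjunction f).counit.app N) ▷ K) =
      gammaMap f g g' f' w ((Scheme.Modules.pushforward f').obj K) N ≫
        (Scheme.Modules.pushforward f').map ((Scheme.Modules.pullback g').obj N ◁
          (Scheme.Modules.pullbackPushforwardAdjunction f').counit.app K) := by
  have h1 := μ_natural_left (F := Scheme.Modules.pushforward f')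
    ((Scheme.Modules.pullback g').map
          ((Scheme.Modules.pullbackPushforwardAdjunction f).counit.app N)) K
  have h2 := μ_natural_right (F := Scheme.Modules.pushforward f')
    ((Scheme.Modules.pullback g').obj N)
    ((Scheme.Modules.pullbackPushforwardAdjunction f').counit.app K)
  have h3 : chat f g g' f' w ((Scheme.Modules.pushforward f).obj N) ≫
      (Scheme.Modules.pushforward f').map ((Scheme.Modules.pullback g').map
          ((Scheme.Modules.pullbackPushforwardAdjunction f).counit.app N)) =
      (K355.bcMap f g g' f' w).app N := by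
    have h4 : (Scheme.Modules.pullback g).map ((Scheme.Modules.pushforward f).map
      ((Scheme.Modules.pullbackPushforwardAdjunction f).counit.app N)) ≫
      (K355.bcMap f g g' f' w).app N = (K355.bcMap f g g' f' w).app _ ≫
        (Scheme.Modules.pushforward f').map ((Scheme.Modules.pullback g').map
          ((Scheme.Modules.pullbackPushforwardAdjunction f).counit.app N)) :=
      (K355.bcMap f g g' f' w).naturality
        ((Scheme.Modules.pullbackPushforwardAdjunction f).counit.app N)
    have h5 : pbUnit f ((Scheme.Modules.pushforward f).obj N) ≫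
        (Scheme.Modules.pushforward f).map
          ((Scheme.Modules.pullbackPushforwardAdjunction f).counit.app N) = 𝟙 _ :=
      (Scheme.Modules.pullbackPushforwardAdjunction f).right_triangle_components N
    unfold chat
    rw [Category.assoc]
    refine (congrArg (fun z => (Scheme.Modules.pullback g).map
      (pbUnit f ((Scheme.Modules.pushforward f).obj N)) ≫ z) h4.symm).trans ?_
    rw [← Category.assoc, ← Functor.map_comp, h5]
    exact (congrArg (fun z => z ≫ (K355.bcMap f g g' f' w).app N)
      (CategoryTheory.Functor.map_id _ _)).trans (Category.id_comp _)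
  have h5 : pbUnit f' ((Scheme.Modules.pushforward f').obj K) ≫
      (Scheme.Modules.pushforward f').map
        ((Scheme.Modules.pullbackPushforwardAdjunction f').counit.app K) = 𝟙 _ :=
    (Scheme.Modules.pullbackPushforwardAdjunction f').right_triangle_components K
  unfold betaMap gammaMap
  rw [Category.assoc, Category.assoc]
  refine (congrArg (fun z => (chat f g g' f' w ((Scheme.Modules.pushforward f).obj N) ▷
    (Scheme.Modules.pushforward f').obj K) ≫ z) h1.symm).trans ?_
  refine Eq.trans ?_ (congrArg (fun z => ((K355.bcMap f g g' f' w).app N ⊗ₘ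
    pbUnit f' ((Scheme.Modules.pushforward f').obj K)) ≫ z) h2)
  rw [← Category.assoc, ← Category.assoc]
  congr 1
  have h6 : (Scheme.Modules.pushforward f').obj ((Scheme.Modules.pullback g').obj N) ◁
      pbUnit f' ((Scheme.Modules.pushforward f').obj K) ≫
      (Scheme.Modules.pushforward f').obj ((Scheme.Modules.pullback g').obj N) ◁
        (Scheme.Modules.pushforward f').map
          ((Scheme.Modules.pullbackPushforwardAdjunction f').counit.app K) = 𝟙 _ := by
    rw [← MonoidalCategory.whiskerLeft_comp, h5, MonoidalCategory.whiskerLeft_id]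
  rw [← comp_whiskerRight, h3, tensorHom_def, Category.assoc]
  exact (Category.comp_id _).symm.trans
    (congrArg (fun z => (K355.bcMap f g g' f' w).app N ▷ _ ≫ z) h6.symm)

end K308.GeoIso
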