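import Groth.Agent.FunMor.K350.KerBase
import Groth.Agent.FunMor.K308.GeoNat
import Groth.Agent.CohqB.QC5
import Groth.Agent.Fdesc.StructMod
import Groth.Agent.Flat2D.ThickRed

/-!
# The unit of a closed immersion on the kernel of a Fourier–Mukai type functor

If `M ↦ q_* (p^* M ⊗ K)` maps `O_X ⟶ i_* i^* O_X` to an epimorphism, then `q_* K ⟶ q_* g_* g^* K` is an
epimorphism for the base change `g` of `i`; on sections over an affine open this is a surjection, and the
kernel of the unit `K ⟶ g_* g^* K` on a box `p⁻¹ U ∩ q⁻¹ V` is generated by the ideal of `i`.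
-/

set_option autoImplicit false
universe u
open CategoryTheory CategoryTheory.Limits AlgebraicGeometry MonoidalCategory TopologicalSpace
open scoped Groth.Agent.Dcoh.MonCat Groth.Agent.Dcoh.MonPull

namespace K308.FinSupp

open Groth.Agent.CohqA.PullbackSections Groth.Agent.CohqA.BaseChangeMod

section alg

/-- The kernel of the base change map of a module along a surjective ring homomorphism. -/
theorem mem_smul_top_of_isBC {A B : Type u} [CommRing A] [CommRing B] {φ : A →+* B}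
    (hφ : Function.Surjective φ) {M N : Type u} [AddCommGroup M] [Module A M] [AddCommGroup N]
    [Module B N] {f : M →+ N} (h : IsBC φ f) {x : M} (hx : f x = 0) :
    x ∈ (RingHom.ker φ • ⊤ : Submodule A M) := by
  let I : Ideal A := RingHom.ker φ
  let e : A ⧸ I ≃+* B := RingHom.quotientKerEquivOfSurjective hφ
  let _ : Module B (M ⧸ (I • ⊤ : Submodule A M)) := Module.compHom (M ⧸ (I • ⊤ : Submodule A M)) (e.symm : B →+* A ⧸ I)
  obtain ⟨g', hg', -⟩ := h.lift (M ⧸ (I • ⊤ : Submodule A M))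
    (QuotientAddGroup.mk' ((I • ⊤ : Submodule A M)).toAddSubgroup) (fun r x => by
      have h1 : e.symm (φ r) = Ideal.Quotient.mk I r := by
        rw [RingEquiv.symm_apply_eq]
        rfl
      change (Submodule.Quotient.mk (r • x) : M ⧸ (I • ⊤ : Submodule A M)) =
        (e.symm (φ r)) • (Submodule.Quotient.mk x : M ⧸ (I • ⊤ : Submodule A M))
      rw [h1]
      rfl)
  have h2 := hg' x
  rw [hx, map_zero] at h2
  exact (Submodule.Quotient.mk_eq_zero _).1 h2.symm

end alg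

section

variable {X Y P T PT : Scheme.{u}} {p : P ⟶ X} {q : P ⟶ Y} {i : T ⟶ X} {p' : PT ⟶ T} {g : PT ⟶ P}

theorem epi_push_unit [IsAffineHom i] (h : IsPullback p' g i p) (q : P ⟶ Y) (K : P.Modules)
    (hK : Coh.IsQCoh K)
    (hE : Epi ((K355.FM p q K).map (pbUnit i (Coh.structureModule X)))) :
    Epi ((Coh.push q).map (pbUnit g K)) := by
  have hg : IsAffineHom g := MorphismProperty.of_isPullback h ‹_›
  have hO : Coh.IsQCoh (Coh.structureModule X) := Groth.Agent.Fdesc.StructMod.isQCoh_structureModule X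
  have hO' : Coh.IsQCoh ((Scheme.Modules.pullback i).obj (Coh.structureModule X)) :=
    K355.isQCoh_pull i _ hO
  have hK' : Coh.IsQCoh ((Scheme.Modules.pullback g).obj K) := K355.isQCoh_pull g _ hK
  have h1 := GeoIso.isIso_betaMap i p p' g h.w (M := Coh.structureModule X)
    (K := (Scheme.Modules.pullback g).obj K) hO hK'
  have h2 := GeoIso.isIso_gammaMap i p p' g h (L := K)
    (N := (Scheme.Modules.pullback i).obj (Coh.structureModule X)) hK hO'
  have h3 := congrArg (Coh.push q).map (GeoIso.k3 i p p' g h.w K (Coh.structureModule X))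
  rw [Functor.map_comp, Functor.map_comp] at h3
  have h4 : Epi ((Coh.push q).map ((Scheme.Modules.pullback p).map
      (pbUnit i (Coh.structureModule X)) ▷ K)) := hE
  have h5 : Epi ((Coh.push q).map
      ((Scheme.Modules.pullback p).obj (Coh.structureModule X) ◁ pbUnit g K)) := by
    have h6 : (Coh.push q).map
      ((Scheme.Modules.pullback p).obj (Coh.structureModule X) ◁ pbUnit g K) =
      (Coh.push q).map ((Scheme.Modules.pullback p).map
        (pbUnit i (Coh.structureModule X)) ▷ K) ≫ (Coh.push q).map (GeoIso.gammaMap i p p' g h.w K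
          ((Scheme.Modules.pullback i).obj (Coh.structureModule X))) ≫ inv ((Coh.push q).map
            (GeoIso.betaMap i p p' g h.w (Coh.structureModule X)
              ((Scheme.Modules.pullback g).obj K))) := by
      rw [← Category.assoc, ← h3, Category.assoc, IsIso.hom_inv_id, Category.comp_id]
    rw [h6]
    infer_instance
  have h7 := congrArg (Coh.push q).map (K350.Ker.vIso_naturality p (pbUnit g K))
  rw [Functor.map_comp, Functor.map_comp] at h7
  have h8 : (Coh.push q).map (pbUnit g K) = (Coh.push q).map (K350.Ker.vIso p K).inv ≫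
      (Coh.push q).map ((Scheme.Modules.pullback p).obj (Coh.structureModule X) ◁ pbUnit g K) ≫
        (Coh.push q).map (K350.Ker.vIso p _).hom := by
    rw [h7, ← Category.assoc, ← Functor.map_comp, Iso.inv_hom_id]
    exact (Category.id_comp _).symm.trans
      (congrArg (fun z => z ≫ (Coh.push q).map (pbUnit g K)) ((Coh.push q).map_id K).symm)
  rw [h8]
  infer_instance

/-- The unit of the base change of a closed immersion is onto on sections over `q⁻¹ V`. -/
theorem exists_pbUnit_eq [IsAffineHom i] (h : IsPullback p' g i p) (q : P ⟶ Y) [QuasiCompact q]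
    [QuasiSeparated q] (K : P.Modules) (hK : Coh.IsQCoh K)
    (hE : Epi ((K355.FM p q K).map (pbUnit i (Coh.structureModule X)))) {V : Y.Opens}
    (hV : IsAffineOpen V) (t : Γ((Scheme.Modules.pullback g).obj K, g ⁻¹ᵁ (q ⁻¹ᵁ V))) :
    ∃ e : Γ(K, q ⁻¹ᵁ V), (pbUnit g K).app (q ⁻¹ᵁ V) e = t := by
  have hg : IsAffineHom g := MorphismProperty.of_isPullback h ‹_›
  have hK' : Coh.IsQCoh ((Scheme.Modules.pushforward g).obj ((Scheme.Modules.pullback g).obj K)) :=
    Groth.Agent.Ega1.QcqsPush.isQCoh_pushforward g _ (K355.isQCoh_pull g _ hK)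
  have := epi_push_unit h q K hK hE
  exact Groth.Agent.CohqB.QC5.app_surjective_of_epi ((Coh.push q).map (pbUnit g K))
    (Groth.Agent.Ega1.QcqsPush.isQCoh_pushforward q K hK)
    (Groth.Agent.Ega1.QcqsPush.isQCoh_pushforward q _ hK') hV t

/-- The kernel of `i` on a box. -/
theorem ker_app_box [IsClosedImmersion i] (h : IsPullback p' g i p) {U : X.Opens} (hU : IsAffineOpen U)
    {W : P.Opens} (hW : IsAffineOpen W) (hWU : W ≤ p ⁻¹ᵁ U) :
    Function.Surjective (g.app W).hom ∧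
      RingHom.ker (g.app W).hom = (RingHom.ker (i.app U).hom).map (p.appLE U W hWU).hom := by
  have h1 := Groth.Agent.CohqA.AffineBaseChange.isPushout_appLE h hU hW hWU
  have h2 := Groth.Agent.Flat2D.ThickRed.surjective_and_ker_of_isPushout h1 (by
    rw [Scheme.Hom.appLE_eq_app]
    exact i.app_surjective U hU)
  rw [Scheme.Hom.appLE_eq_app, Scheme.Hom.appLE_eq_app] at h2
  exact h2

/-- Sections of `K` on `q⁻¹ V` generate its sections on the box `p⁻¹ U ∩ q⁻¹ V` modulo the ideal of a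
closed subscheme `T` of `X` contained in `U`. -/
theorem exists_sub_mem [IsClosedImmersion i] (h : IsPullback p' g i p) (q : P ⟶ Y) [QuasiCompact q]
    [QuasiSeparated q] (K : P.Modules) (hK : Coh.IsQCoh K)
    (hE : Epi ((K355.FM p q K).map (pbUnit i (Coh.structureModule X)))) {V : Y.Opens}
    (hV : IsAffineOpen V) {U : X.Opens} (hU : IsAffineOpen U) (hi : ∀ t : T, i t ∈ U)
    (hW : IsAffineOpen (p ⁻¹ᵁ U ⊓ q ⁻¹ᵁ V)) (m : Γ(K, p ⁻¹ᵁ U ⊓ q ⁻¹ᵁ V)) :
    ∃ e : Γ(K, q ⁻¹ᵁ V), m - K.presheaf.map (homOfLE (inf_le_right : p ⁻¹ᵁ U ⊓ q ⁻¹ᵁ V ≤ _)).op e ∈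
      ((RingHom.ker (i.app U).hom).map (p.appLE U (p ⁻¹ᵁ U ⊓ q ⁻¹ᵁ V) inf_le_left).hom • ⊤ :
        Submodule Γ(P, p ⁻¹ᵁ U ⊓ q ⁻¹ᵁ V) Γ(K, p ⁻¹ᵁ U ⊓ q ⁻¹ᵁ V)) := by
  have hg : IsClosedImmersion g := MorphismProperty.of_isPullback h ‹_›
  have hle : g ⁻¹ᵁ (q ⁻¹ᵁ V) ≤ g ⁻¹ᵁ (p ⁻¹ᵁ U ⊓ q ⁻¹ᵁ V) := by
    intro z hz
    refine ⟨?_, hz⟩
    have h1 : p (g z) = i (p' z) := by
      rw [← Scheme.Hom.comp_apply, ← Scheme.Hom.comp_apply, h.w]
    change p (g z) ∈ U
    rw [h1]
    exact hi _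
  obtain ⟨e, he⟩ := exists_pbUnit_eq h q K hK hE hV
    (((Scheme.Modules.pullback g).obj K).presheaf.map (homOfLE hle).op
      ((pbUnit g K).app (p ⁻¹ᵁ U ⊓ q ⁻¹ᵁ V) m))
  refine ⟨e, ?_⟩
  obtain ⟨hs, hk⟩ := ker_app_box h hU hW inf_le_left
  rw [← hk]
  have : K.IsQuasicoherent := hK
  refine mem_smul_top_of_isBC hs (K355.pullSec_isBC g K hW (hW.preimage g)) ?_
  rw [map_sub, sub_eq_zero]
  change (pbUnit g K).app (p ⁻¹ᵁ U ⊓ q ⁻¹ᵁ V) m = (pbUnit g K).app (p ⁻¹ᵁ U ⊓ q ⁻¹ᵁ V)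
    (K.presheaf.map (homOfLE (inf_le_right : p ⁻¹ᵁ U ⊓ q ⁻¹ᵁ V ≤ _)).op e)
  have h5 : (pbUnit g K).app (p ⁻¹ᵁ U ⊓ q ⁻¹ᵁ V)
      (K.presheaf.map (homOfLE (inf_le_right : p ⁻¹ᵁ U ⊓ q ⁻¹ᵁ V ≤ _)).op e) =
      ((Scheme.Modules.pullback g).obj K).presheaf.map
        (homOfLE (g.preimage_mono (inf_le_right : p ⁻¹ᵁ U ⊓ q ⁻¹ᵁ V ≤ _))).op
        ((pbUnit g K).app (q ⁻¹ᵁ V) e) :=
    PresheafOfModules.naturality_apply (pbUnit g K).val
      (homOfLE (inf_le_right : p ⁻¹ᵁ U ⊓ q ⁻¹ᵁ V ≤ _)).op e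
  rw [h5, he]
  exact ((map_map' ((Scheme.Modules.pullback g).obj K) _ hle _).trans (map_self' _ _ _)).symm

end

end K308.FinSupp
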