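import Groth.Agent.FunMor.K355.FMBase
import Groth.Agent.Dcoh.MonPull3_292

/-!
# The projection formula through the lax monoidal structure of the push-forward
-/

set_option autoImplicit false
universe u
open CategoryTheory CategoryTheory.Limits AlgebraicGeometry MonoidalCategory Functor.LaxMonoidal
open scoped Groth.Agent.Dcoh.MonCat Groth.Agent.Dcoh.MonPull

namespace K308.GeoIso

open Groth.Agent.CohqA.AffineBaseChange Groth.Agent.CohqA.PullbackUniv
open Groth.Agent.CohqA.PullbackSections Groth.Agent.PerfC.TensRestr

section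

variable {X Y : Scheme.{u}} (f : X ⟶ Y)

theorem proj_eq (G : X.Modules) (E : Y.Modules) :
    Groth.Agent.Dcoh.ClosedProj.proj f G E =
      ((Scheme.Modules.pushforward f).obj G ◁ pbUnit f E) ≫
        μ (Scheme.Modules.pushforward f) G ((Scheme.Modules.pullback f).obj E) := by
  refine tensorBi_hom_ext _ _ fun U g e => ?_
  refine (Groth.Agent.Dcoh.ClosedProj.proj_tm f G E g e).trans ?_
  symm
  refine (congrArg ((μ (Scheme.Modules.pushforward f) G ((Scheme.Modules.pullback f).obj E)).app U)
    (Groth.Agent.Dcoh.MonTm.whiskerLeft_tm ((Scheme.Modules.pushforward f).obj G) (pbUnit f E)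
      (U := U) g e)).trans ?_
  exact Groth.Agent.Dcoh.MonPull.push_μ_tm f G ((Scheme.Modules.pullback f).obj E) g
    ((pbUnit f E).app U e)

theorem isIso_proj' [IsAffineHom f] {G : X.Modules} {E : Y.Modules} (hG : Coh.IsQCoh G)
    (hE : Coh.IsQCoh E) : IsIso (((Scheme.Modules.pushforward f).obj G ◁ pbUnit f E) ≫
        μ (Scheme.Modules.pushforward f) G ((Scheme.Modules.pullback f).obj E)) := by
  rw [← proj_eq]
  exact K355.isIso_proj_affine f G E hG hE

theorem projR_eq (G : X.Modules) (E : Y.Modules) :
    (pbUnit f E ▷ (Scheme.Modules.pushforward f).obj G) ≫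
        μ (Scheme.Modules.pushforward f) ((Scheme.Modules.pullback f).obj E) G =
      (β_ E ((Scheme.Modules.pushforward f).obj G)).hom ≫
        (((Scheme.Modules.pushforward f).obj G ◁ pbUnit f E) ≫
        μ (Scheme.Modules.pushforward f) G ((Scheme.Modules.pullback f).obj E)) ≫
          (Scheme.Modules.pushforward f).map (β_ G ((Scheme.Modules.pullback f).obj E)).hom := by
  let _ := Groth.Agent.Dcoh.MonPull.laxBraidedPush f
  have h1 : μ (Scheme.Modules.pushforward f) G ((Scheme.Modules.pullback f).obj E) ≫
      (Scheme.Modules.pushforward f).map (β_ G ((Scheme.Modules.pullback f).obj E)).hom =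
      (β_ ((Scheme.Modules.pushforward f).obj G)
        ((Scheme.Modules.pushforward f).obj ((Scheme.Modules.pullback f).obj E))).hom ≫
        μ (Scheme.Modules.pushforward f) ((Scheme.Modules.pullback f).obj E) G :=
    Functor.LaxBraided.braided (F := Scheme.Modules.pushforward f) G
      ((Scheme.Modules.pullback f).obj E)
  rw [Category.assoc, h1, ← Category.assoc, ← Category.assoc]
  congr 1
  rw [← BraidedCategory.braiding_naturality_left, Category.assoc, SymmetricCategory.symmetry,
    Category.comp_id]

theorem isIso_projR [IsAffineHom f] {G : X.Modules} {E : Y.Modules} (hG : Coh.IsQCoh G)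
    (hE : Coh.IsQCoh E) : IsIso ((pbUnit f E ▷ (Scheme.Modules.pushforward f).obj G) ≫
        μ (Scheme.Modules.pushforward f) ((Scheme.Modules.pullback f).obj E) G) := by
  have := isIso_proj' f hG hE
  rw [projR_eq]
  infer_instance

end

section

variable {X S X' S' : Scheme.{u}} (f : X ⟶ S) (g : S' ⟶ S) (g' : X' ⟶ X) (f' : X' ⟶ S')
  (w : g' ≫ f = f' ≫ g)

/-- `g^* M ⟶ f'_* g'^* f^* M`. -/
noncomputable def chat (M : S.Modules) : (Scheme.Modules.pullback g).obj M ⟶
    (Scheme.Modules.pushforward f').obj ((Scheme.Modules.pullback g').obj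
      ((Scheme.Modules.pullback f).obj M)) :=
  (Scheme.Modules.pullback g).map (pbUnit f M) ≫
    (K355.bcMap f g g' f' w).app ((Scheme.Modules.pullback f).obj M)

theorem compMap_chat (M : S.Modules) : compMap (pbUnit g M) (chat f g g' f' w M) =
    compMap (pbUnit f M) (pbUnit g' ((Scheme.Modules.pullback f).obj M)) ≫
      (Scheme.Modules.pushforwardCongr w).hom.app _ := by
  have h1 : pbUnit g M ≫ (Scheme.Modules.pushforward g).map
      ((Scheme.Modules.pullback g).map (pbUnit f M)) = pbUnit f M ≫ pbUnit g _ :=
    ((Scheme.Modules.pullbackPushforwardAdjunction g).unit.naturality (pbUnit f M)).symm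
  have h2 : pbUnit g _ ≫ (Scheme.Modules.pushforward g).map
      ((K355.bcMap f g g' f' w).app ((Scheme.Modules.pullback f).obj M)) =
      pushSquare f g g' f' w (pbUnit g' ((Scheme.Modules.pullback f).obj M)) := by
    have h3 := ((Scheme.Modules.pullbackPushforwardAdjunction g).homEquiv _ _).apply_symm_apply
      (pushSquare f g g' f' w (pbUnit g' ((Scheme.Modules.pullback f).obj M)))
    rw [Adjunction.homEquiv_unit] at h3
    exact h3
  unfold compMap chat
  rw [Functor.map_comp, Category.assoc, reassoc_of% h1, reassoc_of% h2]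
  unfold pushSquare
  simp only [Category.assoc, Iso.inv_hom_id_app]
  erw [Category.comp_id]
  rfl

theorem isUniv_chat (M : S.Modules) : IsUniv f' (chat f g g' f' w M) := by
  rw [← isUniv_compMap_iff (isUniv_pbUnit g M), compMap_chat, isUniv_congr]
  exact (isUniv_pbUnit f M).comp (isUniv_pbUnit g' _)

theorem chat_naturality {M N : S.Modules} (a : M ⟶ N) :
    (Scheme.Modules.pullback g).map a ≫ chat f g g' f' w N = chat f g g' f' w M ≫
      (Scheme.Modules.pushforward f').map ((Scheme.Modules.pullback g').map
        ((Scheme.Modules.pullback f).map a)) := by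
  have h1 : a ≫ pbUnit f N = pbUnit f M ≫ (Scheme.Modules.pushforward f).map
      ((Scheme.Modules.pullback f).map a) :=
    (Scheme.Modules.pullbackPushforwardAdjunction f).unit.naturality a
  have h2 := (K355.bcMap f g g' f' w).naturality ((Scheme.Modules.pullback f).map a)
  unfold chat
  rw [← Category.assoc, ← Functor.map_comp, h1, Functor.map_comp, Category.assoc, Category.assoc]
  exact congrArg (fun z => (Scheme.Modules.pullback g).map (pbUnit f M) ≫ z) h2

/-- The isomorphism `f'^* g^* M ≅ g'^* f^* M`. -/
noncomputable def cIso (M : S.Modules) : (Scheme.Modules.pullback f').obj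
    ((Scheme.Modules.pullback g).obj M) ⟶ (Scheme.Modules.pullback g').obj
      ((Scheme.Modules.pullback f).obj M) :=
  ((Scheme.Modules.pullbackPushforwardAdjunction f').homEquiv _ _).symm (chat f g g' f' w M)

instance isIso_cIso (M : S.Modules) : IsIso (cIso f g g' f' w M) :=
  (isUniv_iff_isIso f' _).1 (isUniv_chat f g g' f' w M)

theorem chat_eq (M : S.Modules) : chat f g g' f' w M =
    pbUnit f' _ ≫ (Scheme.Modules.pushforward f').map (cIso f g g' f' w M) := by
  have h3 := ((Scheme.Modules.pullbackPushforwardAdjunction f').homEquiv _ _).apply_symm_apply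
    (chat f g g' f' w M)
  rw [Adjunction.homEquiv_unit] at h3
  exact h3.symm

/-- The projection formula `g^* M ⊗ f'_* K ≅ f'_* (g'^* f^* M ⊗ K)`. -/
noncomputable def betaMap (M : S.Modules) (K : X'.Modules) :
    (Scheme.Modules.pullback g).obj M ⊗ (Scheme.Modules.pushforward f').obj K ⟶
      (Scheme.Modules.pushforward f').obj ((Scheme.Modules.pullback g').obj
        ((Scheme.Modules.pullback f).obj M) ⊗ K) :=
  (chat f g g' f' w M ▷ (Scheme.Modules.pushforward f').obj K) ≫
    μ (Scheme.Modules.pushforward f') _ _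

theorem isIso_betaMap [IsAffineHom f'] {M : S.Modules} {K : X'.Modules} (hM : Coh.IsQCoh M)
    (hK : Coh.IsQCoh K) : IsIso (betaMap f g g' f' w M K) := by
  have h := isIso_projR f' hK (K355.isQCoh_pull g M hM)
  have h1 : betaMap f g g' f' w M K = ((pbUnit f' ((Scheme.Modules.pullback g).obj M) ▷
      (Scheme.Modules.pushforward f').obj K) ≫ μ (Scheme.Modules.pushforward f') _ K) ≫
      (Scheme.Modules.pushforward f').map (cIso f g g' f' w M ▷ K) := by
    unfold betaMap
    rw [chat_eq, comp_whiskerRight, Category.assoc, Category.assoc]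
    congr 1
    exact μ_natural_left (F := Scheme.Modules.pushforward f') (cIso f g g' f' w M) K
  rw [h1]
  infer_instance

/-- Base change and the projection formula: `g^* f_* N ⊗ L ≅ f'_* (g'^* N ⊗ f'^* L)`. -/
noncomputable def gammaMap (L : S'.Modules) (N : X.Modules) :
    (Scheme.Modules.pullback g).obj ((Scheme.Modules.pushforward f).obj N) ⊗ L ⟶
      (Scheme.Modules.pushforward f').obj ((Scheme.Modules.pullback g').obj N ⊗
        (Scheme.Modules.pullback f').obj L) :=
  ((K355.bcMap f g g' f' w).app N ⊗ₘ pbUnit f' L) ≫ μ (Scheme.Modules.pushforward f') _ _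

theorem isIso_gammaMap (h : IsPullback g' f' f g) [IsAffineHom f] {L : S'.Modules} {N : X.Modules}
    (hL : Coh.IsQCoh L) (hN : Coh.IsQCoh N) : IsIso (gammaMap f g g' f' h.w L N) := by
  have : IsAffineHom f' := MorphismProperty.of_isPullback h ‹_›
  have h0 := K355.isIso_bcMap_affine f g g' f' h N hN
  have h1 := isIso_proj' f' (K355.isQCoh_pull g' N hN) hL
  unfold gammaMap
  rw [tensorHom_def, Category.assoc]
  infer_instance

end

end K308.GeoIso
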